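import Groth.Agent.Lib.SubtrRefine4.Affine
import Groth.Agent.Lib.GenMap.OpenMap
import Groth.Agent.Lib.BlowUpProper.Basic
import Groth.Agent.S14786
import Groth.Agent.S14790
import Groth.Agent.S1273
import Groth.Prelude.Def_RedSub

/-!
# Universally open morphisms become flat after a proper base change
-/

set_option autoImplicit false
set_option backward.isDefEq.respectTransparency false
universe u

open CategoryTheory CategoryTheory.Limits AlgebraicGeometry Opposite

noncomputable section

namespace GrothLib.SubtrOpen4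

/-- After a proper surjective base change, a nil-immersed subscheme is flat of finite presentation. -/
def Flattens {X Y : Scheme.{u}} (f : X ⟶ Y) : Prop :=
  ∃ (Y' : Scheme.{u}) (q : Y' ⟶ Y) (X' : Scheme.{u}) (r : X' ⟶ pullback f q),
    IsProper q ∧ Surjective q ∧ LocallyOfFinitePresentation q ∧
    IsClosedImmersion r ∧ Surjective r ∧
    Flat (r ≫ pullback.snd f q) ∧ Surjective (r ≫ pullback.snd f q) ∧
    LocallyOfFinitePresentation (r ≫ pullback.snd f q) ∧ QuasiCompact (r ≫ pullback.snd f q) ∧
    QuasiSeparated (r ≫ pullback.snd f q)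

/-- The ideal of the schematic closure of the complement of a divisor is its ideal of torsion. -/
theorem exists_strict_ideal {P : Scheme.{u}} [IsNoetherian P] (E : P.IdealSheafData) :
    ∃ 𝒥 : P.IdealSheafData,
      (∀ (V : P.affineOpens) (a : Γ(P, V.1)), a ∈ 𝒥.ideal V ↔
        BlowUp.KilledByPowerNear E (Coh.structureModule P) V a) ∧
      (𝒥.support : Set P) = closure (E.support : Set P)ᶜ := by
  let W : P.Opens := E.support.compl
  refine ⟨W.ι.ker, fun V a => ?_, ?_⟩
  · haveI : IsNoetherianRing Γ(P, V.1) := IsLocallyNoetherian.component_noetherian V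
    rw [Scheme.Hom.ker_apply, RingHom.mem_ker]
    constructor
    · intro ha
      have hrad : ∀ e ∈ E.ideal V, ∃ m : ℕ, e ^ m * a = 0 := fun e he => by
        refine exists_pow_mul_eq_zero_of_res_basicOpen_eq_zero_of_isAffineOpen P V.2 a e ?_
        have hd : P.basicOpen e ≤ W.ι ''ᵁ (W.ι ⁻¹ᵁ V.1) := by
          rw [Scheme.Hom.image_preimage_eq_opensRange_inf, Scheme.Opens.opensRange_ι]
          exact le_inf (fun x hx => Set.disjoint_left.mp (GrothLib.BlowUp.disjoint_basicOpen_support he) hx)
            (P.basicOpen_le e)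
        have h1 := congrArg (P.presheaf.map (homOfLE hd).op) ha
        rw [map_zero, Scheme.Opens.ι_app] at h1
        rw [TopCat.Presheaf.restrictOpen, TopCat.Presheaf.restrict]
        erw [← ConcreteCategory.comp_apply, ← P.presheaf.map_comp] at h1
        exact h1
      let A : Ideal Γ(P, V.1) :=
        { carrier := {r | r * a = 0}
          add_mem' := fun {r r'} (h : r * a = 0) (h' : r' * a = 0) => show (r + r') * a = 0 by
            rw [add_mul, h, h', add_zero]
          zero_mem' := zero_mul a
          smul_mem' := fun r r' (h : r' * a = 0) => show r * r' * a = 0 by rw [mul_assoc, h, mul_zero] }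
      obtain ⟨n, hn⟩ := Ideal.exists_pow_le_of_le_radical_of_fg (I := E.ideal V) (J := A)
        (fun e he => hrad e he) (IsNoetherian.noetherian _)
      refine ⟨n, fun e he => ?_⟩
      rw [Scheme.IdealSheafData.ideal_pow, Pi.pow_apply] at he
      exact hn he
    · rintro ⟨n, hn⟩
      refine TopCat.Presheaf.section_ext (W : Scheme.{u}).sheaf (W.ι ⁻¹ᵁ V.1) _ _ fun w hw => ?_
      have hv : W.ι w ∈ V.1 := hw
      have hsupp : W.ι w ∉ E.support := w.2
      rw [Scheme.IdealSheafData.mem_support_iff_of_mem hv, Scheme.mem_zeroLocus_iff] at hsupp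
      push Not at hsupp
      obtain ⟨e, he, hve⟩ := hsupp
      have h0 : e ^ n * a = 0 := hn (e ^ n) (by
        rw [Scheme.IdealSheafData.ideal_pow, Pi.pow_apply]
        exact Ideal.pow_mem_pow he n)
      rw [Scheme.mem_basicOpen _ _ _ hv] at hve
      have h1 := congrArg (P.presheaf.germ V.1 (W.ι w) hv) h0
      rw [map_mul, map_pow, map_zero] at h1
      have h2 : P.presheaf.germ V.1 (W.ι w) hv a = 0 := ((hve.pow n).mul_right_eq_zero).1 h1
      have h3 := congrArg (W.ι.stalkMap w).hom h2
      rw [map_zero] at h3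
      refine Eq.trans ?_ (map_zero ((W : Scheme.{u}).presheaf.germ (W.ι ⁻¹ᵁ V.1) w hw).hom).symm
      exact ((ConcreteCategory.congr_hom (Scheme.Hom.germ_stalkMap W.ι V.1 w hv) a).symm).trans h3
  · rw [Scheme.Hom.support_ker]
    exact congrArg closure W.range_ι

/-- A blow-up is an isomorphism, in particular surjective, away from the centre. -/
theorem mem_range_of_notMem_support {X Y : Scheme.{u}} {b : X ⟶ Y} {I : Y.IdealSheafData}
    (hb : BlowUp.IsBlowUp b I) {y : Y} (hy : y ∉ I.support) : y ∈ Set.range b := by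
  let g := Y.fromSpecResidueField y
  have hg : ∀ z, g z = y := fun z => by
    have := (Scheme.range_fromSpecResidueField y).le (Set.mem_range_self z)
    simpa [g] using this
  have htop : I.comap g = ⊤ := by
    rw [← Scheme.IdealSheafData.support_eq_bot_iff, ← SetLike.coe_injective.eq_iff,
      Scheme.IdealSheafData.support_comap, TopologicalSpace.Closeds.coe_preimage,
      TopologicalSpace.Closeds.coe_bot, Set.eq_empty_iff_forall_notMem]
    exact fun z hz => hy (by rw [← hg z]; exact hz)
  have hC : BlowUp.IsEffCartierIdeal (I.comap g) := fun z =>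
    ⟨⟨⊤, isAffineOpen_top _⟩, trivial, 1, one_mem _, by rw [htop]; simp⟩
  obtain ⟨h, hh, -⟩ := hb.2 _ g hC
  obtain ⟨z⟩ := (inferInstance : Nonempty (Spec (Y.residueField y)))
  exact ⟨h z, by rw [← Scheme.Hom.comp_apply, hh, hg]⟩

/-- The complement of an effective Cartier divisor is dense. -/
theorem dense_compl_support {X : Scheme.{u}} {I : X.IdealSheafData}
    (hI : BlowUp.IsEffCartierIdeal I) : Dense ((I.support : Set X)ᶜ) := by
  intro x
  obtain ⟨y, hy, hyx⟩ : ∃ y : X, (∀ z, z ⤳ y → z = y) ∧ y ⤳ x := by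
    obtain ⟨y, hy⟩ := QuasiSober.sober (isIrreducible_irreducibleComponent (x := x)) isClosed_irreducibleComponent
    refine ⟨y, fun z hz => ?_, hy.specializes mem_irreducibleComponent⟩
    have hC := irreducibleComponent_mem_irreducibleComponents x
    have h1 : irreducibleComponent x ⊆ closure {z} := by rw [← hy.def]; exact hz.closure_subset
    exact (hz.antisymm (hy.specializes (hC.2 isIrreducible_singleton.closure h1 (subset_closure rfl)))).eq
  exact hyx.mem_closed isClosed_closure (subset_closure (GrothLib.BlowUp.notMem_support_of_maximal hI hy))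

theorem flattens_noetherian {X Y : Scheme.{u}} (f : X ⟶ Y) [IsNoetherian Y]
    [LocallyOfFinitePresentation f] [QuasiCompact f] [QuasiSeparated f] [UniversallyOpen f]
    [Surjective f] : Flattens f := by
  let R := (Scheme.IdealSheafData.vanishingIdeal (⊤ : TopologicalSpace.Closeds Y))
  let ι := R.subschemeι
  haveI : IsReduced R.subscheme := RedSub.isReduced_subscheme_vanishingIdeal _
  haveI : Surjective ι := ⟨fun y => by
    have : y ∈ Set.range R.subschemeι := by
      rw [Scheme.IdealSheafData.range_subschemeι, Scheme.IdealSheafData.coe_support_vanishingIdeal]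
      simp
    exact this⟩
  haveI : IsLocallyNoetherian R.subscheme := LocallyOfFiniteType.isLocallyNoetherian ι
  haveI : CompactSpace R.subscheme := QuasiCompact.compactSpace_of_compactSpace ι
  haveI : IsNoetherian R.subscheme := {}
  let f₁ := pullback.snd f ι
  obtain ⟨U, hUd, hUc, hUf⟩ := Groth.Agent.S14790.result
    (TopologicalSpace.NoetherianSpace.isCompact _) f₁
  haveI := hUf
  haveI : LocallyOfFinitePresentation (f₁ ∣_ U) :=
    MorphismProperty.of_isPullback (isPullback_morphismRestrict f₁ U).flip inferInstance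
  obtain ⟨J, S', b, hb, hJ, key⟩ := Groth.Agent.S1273.result f₁ U hUc
  haveI : IsProper b := GrothLib.BlowUpProper.isProper_of_isBlowUp hb
  haveI : Surjective b := ⟨fun y => by
    have hcl : IsClosed (Set.range b) := b.isClosedMap.isClosed_range
    have hU : (U : Set R.subscheme) ⊆ Set.range b := fun z hz =>
      mem_range_of_notMem_support hb fun h => Set.disjoint_left.mp hJ.2 h hz
    exact (closure_minimal hU hcl) (hUd y)⟩
  haveI : IsLocallyNoetherian S' := LocallyOfFiniteType.isLocallyNoetherian b
  haveI : CompactSpace S' := QuasiCompact.compactSpace_of_compactSpace b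
  haveI : IsNoetherian S' := {}
  let P := pullback f₁ b
  haveI : IsLocallyNoetherian P := LocallyOfFiniteType.isLocallyNoetherian (pullback.snd f₁ b)
  haveI : CompactSpace P := QuasiCompact.compactSpace_of_compactSpace (pullback.snd f₁ b)
  haveI : IsNoetherian P := {}
  obtain ⟨𝒥, h𝒥, hsupp⟩ := exists_strict_ideal ((J.comap f₁).comap (pullback.fst f₁ b))
  obtain ⟨hfl, hfp, hqc, hqs⟩ := key P _ _ (IsPullback.of_hasPullback f₁ b) 𝒥 h𝒥
  let e := pullbackLeftPullbackSndIso f ι b
  haveI : Surjective 𝒥.subschemeι := ⟨fun v => by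
    have hd : Dense ((pullback.snd f₁ b) ⁻¹' ((J.comap b).support : Set S')ᶜ) :=
      (dense_compl_support hb.1).preimage (pullback.snd f₁ b).isOpenMap
    have : v ∈ Set.range 𝒥.subschemeι := by
      rw [Scheme.IdealSheafData.range_subschemeι, hsupp, ← Scheme.IdealSheafData.comap_comp,
        pullback.condition, Scheme.IdealSheafData.comap_comp, Scheme.IdealSheafData.support_comap]
      exact hd v
    exact this⟩
  haveI : LocallyOfFinitePresentation ι := inferInstance
  haveI : LocallyOfFinitePresentation b := inferInstance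
  have hsnd : (𝒥.subschemeι ≫ e.hom) ≫ pullback.snd f (b ≫ ι) = 𝒥.subschemeι ≫ pullback.snd f₁ b := by
    rw [Category.assoc, pullbackLeftPullbackSndIso_hom_snd]
  refine ⟨S', b ≫ ι, 𝒥.subscheme, 𝒥.subschemeι ≫ e.hom, inferInstance, inferInstance, inferInstance,
    inferInstance, inferInstance, ?_, ?_, ?_, ?_, ?_⟩
  all_goals rw [hsnd]
  · exact hfl
  · infer_instance
  · exact hfp
  · exact hqc
  · exact hqs

/-- The conclusion is stable under base change. -/
theorem Flattens.of_isPullback {X Y X₀ Y₀ : Scheme.{u}} {f : X ⟶ Y} {f₀ : X₀ ⟶ Y₀} {a : X ⟶ X₀}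
    {m : Y ⟶ Y₀} (sq : IsPullback a f f₀ m) (h : Flattens f₀) : Flattens f := by
  obtain ⟨Y₀', q₀, X₀', r₀, hq, hqs, hqf, hr, hrs, hfl, hfs, hfp, hqc, hqsep⟩ := h
  let q := pullback.snd q₀ m
  let μ := pullback.fst q₀ m
  let π := pullback.lift (f := f₀) (g := q₀) (pullback.fst f q ≫ a) (pullback.snd f q ≫ μ) (by
    rw [Category.assoc, sq.w, pullback.condition_assoc, Category.assoc, pullback.condition])
  have hπ : IsPullback π (pullback.snd f q) (pullback.snd f₀ q₀) μ := by
    refine IsPullback.of_right ?_ (pullback.lift_snd _ _ _) (IsPullback.of_hasPullback f₀ q₀)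
    have h := (IsPullback.of_hasPullback f q).paste_horiz sq
    rw [show pullback.snd q₀ m ≫ m = μ ≫ q₀ from pullback.condition.symm] at h
    rwa [pullback.lift_fst]
  let r := pullback.snd r₀ π
  have sq' : IsPullback (pullback.fst r₀ π) (r ≫ pullback.snd f q) (r₀ ≫ pullback.snd f₀ q₀) μ :=
    (IsPullback.of_hasPullback r₀ π).paste_vert hπ
  refine ⟨pullback q₀ m, q, pullback r₀ π, r, inferInstance, inferInstance, inferInstance,
    inferInstance, inferInstance, MorphismProperty.of_isPullback sq' hfl,
    MorphismProperty.of_isPullback sq' hfs, MorphismProperty.of_isPullback sq' hfp,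
    MorphismProperty.of_isPullback sq' hqc, MorphismProperty.of_isPullback sq' hqsep⟩

theorem univSSubtrusive_of_universallyOpen {X Y : Scheme.{u}} (f : X ⟶ Y) [UniversallyOpen f]
    [Surjective f] : Subtr.UnivSSubtrusive f := by
  intro X' Y' i₁ i₂ f' h
  haveI : UniversallyOpen f' := MorphismProperty.of_isPullback h.flip inferInstance
  haveI : Surjective f' := MorphismProperty.of_isPullback h.flip inferInstance
  intro y y' hy
  obtain ⟨x, hx⟩ := f'.surjective y
  obtain ⟨x', hx', hfx'⟩ := GrothLib.GenMap.generalizingMap_of_isOpenMap f' f'.isOpenMap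
    (a := x) (b := y') (hx ▸ hy)
  exact ⟨x, x', hx', hx, hfx'⟩

theorem flattens_of_isAffine {X Y : Scheme.{u}} (f : X ⟶ Y) [IsAffine Y]
    [LocallyOfFinitePresentation f] [QuasiCompact f] [QuasiSeparated f] [UniversallyOpen f]
    [Surjective f] : Flattens f := by
  let f' := f ≫ Y.isoSpec.hom
  haveI : UniversallyOpen f' := (MorphismProperty.cancel_right_of_respectsIso @UniversallyOpen f _).mpr inferInstance
  obtain ⟨A₀, hA₀, X₀, f₀, a, sq, _, _, _, hu⟩ :=
    (Groth.Agent.S14792.result Γ(Y, ⊤) f').mp (univSSubtrusive_of_universallyOpen f')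
  let D := GrothLib.LimDescend.fgDiagram Γ(Y, ⊤)
  let c := GrothLib.LimDescend.fgCone Γ(Y, ⊤)
  let i₀ : (GrothLib.LimDescend.FgSub Γ(Y, ⊤))ᵒᵖ := op ⟨A₀, hA₀⟩
  let f₁ : X₀ ⟶ D.obj i₀ := f₀
  haveI : LocallyOfFinitePresentation f₁ := inferInstanceAs (LocallyOfFinitePresentation f₀)
  haveI : QuasiCompact f₁ := inferInstanceAs (QuasiCompact f₀)
  haveI : QuasiSeparated f₁ := inferInstanceAs (QuasiSeparated f₀)
  have hY : IsPullback (c.π.app i₀) (𝟙 c.pt) (𝟙 (D.obj i₀)) (c.π.app i₀) := IsPullback.of_id_fst.flip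
  obtain ⟨i, φ, Xi, Yi, fi, gi, pY, pX, hYi, hXi, hfi⟩ :=
    Groth.Agent.S14786.result D c (GrothLib.LimDescend.isLimitFgCone Γ(Y, ⊤)) i₀ f₁ (𝟙 (D.obj i₀))
      f' (𝟙 c.pt) (c.π.app i₀) a hY sq
  haveI : IsIso gi := hYi.isIso_snd_of_isIso
  let fs := fi ≫ gi
  have hsq : IsPullback pX fs f₁ (D.map φ) := by
    have h := hXi.paste_vert hYi
    rwa [Category.comp_id] at h
  have hsq' : IsPullback (hsq.lift a (f' ≫ c.π.app i)
      (by rw [Category.assoc, Cone.w]; exact sq.w)) f' fs (c.π.app i) := by
    refine IsPullback.of_right ?_ (hsq.lift_snd _ _ _) hsq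
    rw [hsq.lift_fst, Cone.w]
    exact sq
  haveI : IsNoetherianRing i.unop.1 :=
    haveI : Algebra.FiniteType ℤ i.unop.1 := (Subalgebra.fg_iff_finiteType _).mp i.unop.2
    Algebra.FiniteType.isNoetherianRing ℤ _
  haveI : IsNoetherian (D.obj i) :=
    inferInstanceAs (IsNoetherian (Spec (CommRingCat.of i.unop.1)))
  haveI : LocallyOfFinitePresentation fs := MorphismProperty.of_isPullback hsq inferInstance
  haveI : QuasiCompact fs := MorphismProperty.of_isPullback hsq inferInstance
  haveI : QuasiSeparated fs := MorphismProperty.of_isPullback hsq inferInstance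
  haveI : UniversallyOpen fs := (MorphismProperty.cancel_right_of_respectsIso @UniversallyOpen fi gi).mpr hfi
  haveI : Surjective f₁ := ⟨fun y => by
    obtain ⟨x, -, -, hx, -⟩ := (GrothLib.SubtrRefine4.univSSubtrusive_of_univSubmersive A₀ hA₀ f₀ hu)
      _ _ _ IsPullback.of_id_snd (y := y) (y' := y) specializes_rfl
    exact ⟨x, hx⟩⟩
  haveI : Surjective fs := MorphismProperty.of_isPullback hsq inferInstance
  exact ((flattens_noetherian fs).of_isPullback hsq').of_isPullback (f := f) (a := 𝟙 X)
    (m := Y.isoSpec.hom) (IsPullback.of_horiz_isIso ⟨by simp [f']⟩)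

end GrothLib.SubtrOpen4
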